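import Cfsg.Agent.H0.TC
set_option maxRecDepth 100000
namespace H0.TCO732
open H0
noncomputable def r0 : TC.WTr := (.node (.node (.node (.node (.node (.node (.leaf [0] 0 0 false) (.leaf [5, 6, 4] 23 3 false)) (.leaf [6, 5, 3, 9, 8, 3] 25 1 false)) (.node (.leaf [4, 2, 9, 4, 3, 0, 3, 2] 57 3 false) (.leaf [6] 6 0 false))) (.node (.node (.leaf [5, 0, 8, 3, 8, 0, 3, 0] 56 3 false) (.leaf [0, 6, 0, 7, 2, 3, 8, 6] 46 8 false)) (.node (.leaf [5, 7, 0, 7, 4, 8, 0] 40 4 true) (.leaf [7] 7 1 false)))) (.node (.node (.node (.node (.leaf [2, 6, 2, 5, 9, 6] 34 0 false) (.leaf [0, 5, 8, 0, 1, 0, 4, 9, 4] 58 3 true)) (.leaf [8, 4, 3, 5, 3, 5] 18 5 false)) (.node (.leaf [5, 9, 8, 4, 1, 9, 8] 38 3 false) (.leaf [1, 0, 2, 6, 4, 0] 37 1 false))) (.node (.node (.leaf [2] 1 0 false) (.leaf [5, 3, 9, 8, 3, 4] 25 2 false)) (.node (.leaf [5] 4 0 false) (.leaf [7] 7 1 false))))) (.node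 (.node (.node (.node (.node (.leaf [3, 5, 7, 0, 7, 4, 8] 40 3 true) (.leaf [7, 9, 7] 15 0 true)) (.leaf [5] 4 0 false)) (.node (.leaf [6, 2, 5, 9, 6, 0] 34 1 false) (.leaf [7, 7] 10 0 false))) (.node (.node (.leaf [5, 9, 8, 4, 2, 6] 33 2 false) (.leaf [6] 6 0 false)) (.node (.leaf [8, 3, 6, 0, 9, 8, 0] 35 0 true) (.leaf [3, 4, 6, 5, 3, 9] 25 6 false)))) (.node (.node (.node (.leaf [0] 0 0 false) (.leaf [5, 5, 5, 5, 5] 16 0 true)) (.node (.leaf [4, 8, 5, 7, 6, 7, 5] 26 1 false) (.leaf [8] 7 0 false))) (.node (.node (.leaf [1] 1 1 false) (.leaf [7, 5, 3, 4, 8, 5, 7] 26 6 false)) (.node (.leaf [3, 9, 1, 4, 1, 0, 1] 45 0 true) (.leaf [7] 7 1 false))))))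
noncomputable def r1 : TC.WTr := (.node (.node (.node (.node (.node (.node (.leaf [2, 4, 3, 2, 5, 3, 7] 43 3 true) (.leaf [4, 2, 0, 9, 8, 0, 1, 5] 50 3 false)) (.leaf [5] 4 0 false)) (.node (.leaf [2, 9, 1, 3, 0, 9, 6] 53 2 true) (.leaf [8] 7 0 false))) (.node (.node (.leaf [7, 0, 5, 7, 3, 0, 8] 41 5 true) (.leaf [4] 4 1 false)) (.node (.leaf [6, 7, 6, 4, 8, 4, 8] 27 4 false) (.leaf [3, 8, 6, 8, 6, 3, 7, 3] 28 3 false)))) (.node (.node (.node (.node (.leaf [1, 0, 1, 3, 2, 0, 2] 30 3 false) (.leaf [9] 9 0 false)) (.leaf [9, 8, 4, 2, 6, 1] 33 3 false)) (.node (.leaf [3] 3 0 false) (.leaf [5, 7, 5, 6, 8, 6, 3] 27 4 true))) (.node (.node (.leaf [2] 1 0 false) (.leaf [7, 6, 9, 6, 8] 11 2 false)) (.node (.leaf [9, 5, 6] 23 2 false) (.leaf [7] 7 1 false))))) (.node (.node (.node (.node (.node (.leaf [9, 6, 2, 0, 9, 6, 2] 49 3 true) (.leaf [4, 1, 7, 9, 2, 5, 7] 38 2 true))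 (.leaf [4] 4 1 false)) (.node (.leaf [0, 9, 8, 0, 1, 5, 9, 4] 50 5 false) (.leaf [9, 2, 5, 7, 9, 4, 1] 38 5 true))) (.node (.node (.leaf [7, 4, 4, 1, 6, 5, 3] 44 3 true) (.leaf [2, 5, 5, 8, 2, 3, 4] 44 7 false)) (.node (.leaf [1, 7, 4, 4, 1, 6, 5] 44 2 true) (.leaf [6, 8, 4, 7, 5, 3, 4] 26 0 true)))) (.node (.node (.node (.leaf [2] 1 0 false) (.leaf [6, 1, 0, 2, 8, 0] 37 0 true)) (.node (.leaf [4, 2, 5, 8, 5, 0, 2, 2] 55 3 false) (.leaf [8] 7 0 false))) (.node (.node (.leaf [2, 6, 1, 1, 9, 8] 39 0 false) (.leaf [5, 3, 1, 7, 4, 4, 1] 44 0 true)) (.node (.leaf [4, 4, 4, 4, 4] 16 0 false) (.leaf [9] 9 0 false))))))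
noncomputable def r2 : TC.WTr := (.node (.node (.node (.node (.node (.node (.leaf [7, 1, 0, 2, 6, 4] 37 0 false) (.leaf [2, 2, 6, 1, 1, 7] 39 1 true)) (.leaf [3, 5, 3, 5, 5, 8] 18 0 false)) (.node (.leaf [0, 8, 5, 3, 7, 0, 1, 7, 5] 52 8 true) (.leaf [6] 6 0 false))) (.node (.node (.leaf [3, 5, 1, 0, 8, 3, 4] 43 0 false) (.leaf [4] 4 1 false)) (.node (.leaf [0, 8, 1, 7, 0, 5, 7] 41 2 true) (.leaf [2, 2, 6, 1, 1, 9] 39 6 false)))) (.node (.node (.node (.node (.leaf [2, 6, 4, 0, 7, 1] 37 3 false) (.leaf [3, 5, 2, 0, 2, 5, 2] 45 5 false)) (.leaf [3, 0, 5, 8, 5, 5, 3, 0, 3, 0] 59 3 false)) (.node (.leaf [1] 1 1 false) (.leaf [9, 3, 4, 6, 5, 3] 25 0 true))) (.node (.node (.leaf [2] 1 0 false) (.leaf [5, 2, 0, 6, 0, 1, 4] 42 6 false)) (.node (.leaf [2, 9, 4, 3, 0, 3, 2, 2] 57 4 false) (.leaf [7] 7 1 false))))) (.node (.node (.node (.node (.node (.leaf [4, 0, 4, 4, 9,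 4, 0, 1] 48 6 true) (.leaf [4, 0, 1, 0, 4, 0, 4, 4] 48 2 true)) (.leaf [5] 4 0 false)) (.node (.leaf [2, 2, 2, 2, 2] 29 0 true) (.leaf [6, 9, 6, 8, 6] 11 3 false))) (.node (.node (.leaf [0, 2, 8, 0, 5, 6] 37 2 true) (.leaf [2, 5, 9, 6, 0, 2] 34 2 false)) (.node (.leaf [5, 5, 8, 4, 3, 5] 18 3 false) (.leaf [0, 5, 6, 1, 0, 2] 37 5 true)))) (.node (.node (.node (.leaf [0] 0 0 false) (.leaf [0, 5, 0, 2, 0, 5, 9, 5] 48 8 false)) (.node (.leaf [4, 8, 6, 8, 4, 7, 5] 26 6 true) (.leaf [8] 7 0 false))) (.node (.node (.leaf [6, 4, 0, 7, 1, 0] 37 4 false) (.leaf [3, 7, 3, 0, 7, 9, 0] 35 4 false)) (.node (.leaf [6, 8, 4, 6, 8] 24 2 true) (.leaf [7] 7 1 false))))))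
noncomputable def r3 : TC.WTr := (.node (.node (.node (.node (.node (.node (.leaf [5, 6, 1, 0, 2, 8] 37 6 true) (.leaf [6, 8, 6, 7, 6] 11 5 false)) (.leaf [5] 4 0 false)) (.node (.leaf [6, 1, 5, 9, 8, 4] 33 0 false) (.leaf [5, 1, 7, 6, 3, 4, 3, 2, 4] 51 2 false))) (.node (.node (.leaf [4, 1, 0, 1, 4, 3, 9] 45 3 true) (.leaf [4] 4 1 false)) (.node (.leaf [0, 7, 5, 8, 0, 8, 4] 40 3 false) (.leaf [6, 3, 7, 5, 7, 5, 6] 27 1 true)))) (.node (.node (.node (.node (.leaf [8, 4, 3, 0, 7, 5, 8] 40 0 false) (.leaf [9] 9 0 false)) (.leaf [5, 8, 4, 3, 5, 3] 18 4 false)) (.node (.leaf [4, 3, 6, 4, 3, 4] 17 4 true) (.leaf [8] 7 0 false))) (.node (.node (.leaf [2] 1 0 false) (.leaf [3, 9, 3] 22 3 false)) (.node (.leaf [0, 8, 2, 7, 0, 3, 8] 41 7 false) (.leaf [7] 7 1 false))))) (.node (.node (.node (.node (.node (.leaf [7, 5, 8, 0, 8, 4, 3] 40 4 false) (.leaf [6, 0, 2, 6, 2, 5]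 34 5 false)) (.leaf [1, 0, 8, 3, 4, 1, 3] 43 2 false)) (.node (.leaf [0, 2, 0, 1, 0, 1, 3] 30 0 false) (.leaf [5, 3, 4, 8, 5, 7, 6] 26 7 false))) (.node (.node (.leaf [2] 1 0 false) (.leaf [0, 1, 4, 6, 5, 2, 0] 42 2 false)) (.node (.leaf [5, 3, 5, 6, 3, 5] 17 2 false) (.leaf [5, 7, 6, 7, 5, 3, 4] 26 3 false)))) (.node (.node (.node (.leaf [0, 6, 9, 4, 1, 6] 34 5 true) (.leaf [9, 5, 5, 0, 5, 0, 2, 0] 48 5 false)) (.node (.leaf [1, 8, 0, 6, 0, 4, 6, 7] 46 3 true) (.leaf [8] 7 0 false))) (.node (.node (.leaf [9, 3, 5, 2, 0, 2, 5] 45 4 false) (.leaf [6] 6 0 false)) (.node (.leaf [7, 1, 4, 7, 1] 36 0 true) (.leaf [8, 9, 8] 15 1 false))))))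
noncomputable def r4 : TC.WTr := (.node (.node (.node (.node (.node (.node (.leaf [2, 0, 5, 9, 5, 5, 0, 5] 48 2 false) (.leaf [8, 4, 2, 6, 1, 5] 33 4 false)) (.leaf [3, 4, 3, 6, 4, 3] 17 3 true)) (.node (.leaf [5, 9, 6, 0, 2, 6] 34 3 false) (.leaf [6] 6 0 false))) (.node (.node (.leaf [4, 7, 1, 4, 7] 36 2 true) (.leaf [3, 5, 3, 5, 6, 3] 17 1 false)) (.node (.leaf [9, 8, 3, 4, 6, 5] 25 4 false) (.leaf [8, 8] 10 0 true)))) (.node (.node (.node (.node (.leaf [2, 0, 1, 0, 1, 3, 2] 30 1 false) (.leaf [6, 2, 0, 9, 6, 2, 0] 49 0 true)) (.leaf [7, 6, 7, 5, 3, 4, 8] 26 4 false)) (.node (.leaf [1] 1 1 false) (.leaf [3, 1, 8, 0, 6, 0, 4, 6] 46 2 true))) (.node (.node (.leaf [2] 1 0 false) (.leaf [8, 6, 7, 6, 9] 11 0 false)) (.node (.leaf [3, 0, 7, 5, 8, 0, 8] 40 2 false) (.leaf [7] 7 1 false))))) (.node (.node (.node (.node (.node (.leaf [1, 5, 9, 4, 2, 0, 7, 9] 50 2 true)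 (.leaf [1, 1, 6, 9, 0, 3, 2] 53 3 false)) (.leaf [5] 4 0 false)) (.node (.leaf [5, 3, 7, 0, 2, 4, 3] 43 7 true) (.leaf [9, 7, 9] 15 1 true))) (.node (.node (.leaf [1, 1, 1, 1, 1] 29 0 false) (.leaf [1, 5, 9, 8, 4, 2] 33 1 false)) (.node (.leaf [4, 4, 0, 3, 9, 2, 2, 9] 47 6 false) (.leaf [2, 7, 0, 3, 8, 4, 0] 41 1 false)))) (.node (.node (.node (.leaf [0] 0 0 false) (.leaf [2, 8, 5, 2, 8] 36 2 false)) (.node (.leaf [6, 3, 9] 22 2 false) (.leaf [8] 7 0 false))) (.node (.node (.leaf [7, 0, 3, 8, 4, 0, 8] 41 2 false) (.leaf [0, 2, 6, 2, 5, 9] 34 6 false)) (.node (.leaf [8, 0, 3, 5, 7, 0, 7] 40 1 true) (.leaf [7] 7 1 false))))))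
noncomputable def r5 : TC.WTr := (.node (.node (.node (.node (.node (.node (.leaf [4, 4, 3, 0, 2, 0, 3, 5] 54 8 true) (.leaf [0, 1, 6, 9, 0, 1, 6] 49 3 false)) (.leaf [5] 4 0 false)) (.node (.leaf [5, 7, 9, 4, 1, 7, 9] 38 7 true) (.leaf [1, 4, 7, 1, 4] 36 1 true))) (.node (.node (.leaf [0, 1, 3, 2, 0, 2, 0] 30 4 false) (.leaf [4] 4 1 false)) (.node (.leaf [5, 3, 5, 3, 5, 6] 17 0 false) (.leaf [2, 0, 8, 3, 4, 7, 0, 1, 4] 52 3 false)))) (.node (.node (.node (.node (.leaf [6, 9, 4, 1, 6, 1] 34 6 true) (.leaf [9] 9 0 false)) (.leaf [9, 6, 0, 2, 6, 2] 34 4 false)) (.node (.leaf [9, 3, 6] 22 0 false) (.leaf [9, 2, 2, 6, 1, 1] 39 0 true))) (.node (.node (.leaf [2] 1 0 false) (.leaf [0, 7, 2, 3, 8, 6, 5, 0] 46 1 false)) (.node (.leaf [0, 7, 1, 0, 2, 6] 37 6 false) (.leaf [7] 7 1 false))))) (.node (.node (.node (.node (.node (.leaf [1, 6, 9, 0, 1, 6, 9] 49 0 false) (.leaf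 [4, 2, 6, 1, 5, 7] 33 2 true)) (.leaf [8, 0, 8, 4, 3, 0, 7] 40 6 false)) (.node (.leaf [0, 1, 0, 1, 1, 0, 5, 2] 31 1 false) (.leaf [6, 4, 8, 4, 8, 3, 6] 27 6 false))) (.node (.node (.leaf [2] 1 0 false) (.leaf [3, 4, 3, 2, 4, 7, 5, 1, 7] 51 6 false)) (.node (.leaf [4, 6, 2, 5, 5, 8, 2] 44 5 false) (.leaf [4, 7, 5, 3, 4, 8, 6] 26 2 true)))) (.node (.node (.node (.leaf [6, 1, 0, 6, 9, 4] 34 3 true) (.leaf [3, 9, 8, 3, 4, 6] 25 3 false)) (.node (.leaf [8, 3, 8, 6, 8, 6, 3, 7] 28 2 false) (.leaf [8] 7 0 false))) (.node (.node (.leaf [8, 5, 2, 8, 5] 36 0 false) (.leaf [6] 6 0 false)) (.node (.leaf [0, 4, 4, 9, 4, 0, 1, 0] 48 7 true) (.leaf [0, 6, 3, 7, 3, 0, 7] 35 2 false))))))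
noncomputable def r6 : TC.WTr := (.node (.node (.node (.node (.node (.node (.leaf [6, 0, 4, 6, 7, 3, 1, 8] 46 6 true) (.leaf [3, 6, 3] 22 1 false)) (.leaf [5] 4 0 false)) (.node (.leaf [9, 1, 3, 0, 9, 6, 2] 53 3 true) (.leaf [6] 6 0 false))) (.node (.node (.leaf [9, 8, 2, 2, 6, 1] 39 4 false) (.leaf [4] 4 1 false)) (.node (.leaf [7, 9, 3, 4, 6, 5] 25 6 true) (.leaf [4, 3, 5, 3, 5, 5] 18 6 false)))) (.node (.node (.node (.node (.leaf [2, 2, 0, 2, 0, 1, 1, 4] 31 1 true) (.leaf [9] 9 0 false)) (.leaf [0, 2, 2, 3, 4, 2, 5, 8] 55 8 false)) (.node (.leaf [1] 1 1 false) (.leaf [0, 3, 8, 4, 0, 8, 2] 41 3 false))) (.node (.node (.leaf [2] 1 0 false) (.leaf [9, 6, 8, 6, 7] 11 4 false)) (.node (.leaf [6, 2, 5, 5, 8, 2, 3] 44 6 false) (.leaf [7] 7 1 false))))) (.node (.node (.node (.node (.node (.leaf [7, 4, 8, 0, 3, 5, 7] 40 7 true) (.leaf [1, 1, 9, 3, 0, 5, 5, 3] 47 3 true))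 (.leaf [5] 4 0 false)) (.node (.leaf [0, 9, 6, 2, 0, 9, 6] 49 2 true) (.leaf [4, 0, 9, 5, 9, 5, 0, 2, 0] 58 3 false))) (.node (.node (.leaf [0, 8, 3, 4, 1, 3, 5] 43 3 false) (.leaf [4, 9, 5] 23 1 false)) (.node (.leaf [4, 3, 4, 3, 6, 4] 17 2 true) (.leaf [4, 3, 0, 7, 5, 8, 0] 40 1 false)))) (.node (.node (.node (.leaf [0] 0 0 false) (.leaf [7, 6, 5, 7, 6] 24 0 false)) (.node (.leaf [5, 0, 4, 4, 3, 0, 2, 0] 54 6 true) (.leaf [8] 7 0 false))) (.node (.node (.leaf [5, 2, 9, 3, 5, 2, 0] 45 2 false) (.leaf [8, 4, 6, 8, 4] 24 0 true)) (.node (.leaf [1, 3, 5, 1, 0, 8, 3] 43 7 false) (.leaf [7] 7 1 false))))))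
noncomputable def r7 : TC.WTr := (.node (.node (.node (.node (.node (.node (.leaf [7, 9, 0, 6, 3, 7, 3] 35 0 false) (.leaf [3, 4, 6, 5, 3, 7] 25 1 true)) (.leaf [5] 4 0 false)) (.node (.leaf [3, 4, 6, 2, 5, 5, 8] 44 4 false) (.leaf [6, 5, 7, 6, 5] 24 1 false))) (.node (.node (.leaf [4, 6, 5, 2, 0, 6, 0] 42 4 false) (.leaf [4] 4 1 false)) (.node (.leaf [6, 4, 3, 4, 3, 4] 17 6 true) (.leaf [6, 7, 6, 9, 6] 11 1 false)))) (.node (.node (.node (.node (.leaf [0] 0 0 false) (.leaf [9] 9 0 false)) (.leaf [6, 4, 9] 23 0 false)) (.node (.leaf [2, 0, 2, 0, 1, 0, 1] 30 7 false) (.leaf [8] 7 0 false))) (.node (.node (.leaf [2] 1 0 false) (.leaf [1, 0, 2, 8, 0, 5] 37 1 true)) (.node (.leaf [1, 0, 1, 4, 3, 9, 1] 45 4 true) (.leaf [7] 7 1 false))))) (.node (.node (.node (.node (.node (.leaf [8, 2, 7, 0, 3, 8, 4] 41 0 false) (.leaf [5, 9, 5, 0, 2, 0, 7, 4, 0] 58 6 false)) (.leaf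 [3, 1, 1, 0, 4, 7, 4, 1] 55 4 true)) (.node (.leaf [4, 3, 2, 5, 3, 7, 0] 43 4 true) (.leaf [3, 0, 7, 9, 0, 6, 3] 35 6 false))) (.node (.node (.leaf [2] 1 0 false) (.leaf [1, 1, 9, 8, 2, 2] 39 2 false)) (.node (.leaf [4, 6, 5, 3, 9, 8] 25 0 false) (.leaf [0, 6, 0, 4, 6, 7, 3, 1] 46 5 true)))) (.node (.node (.node (.leaf [4, 0, 2, 2, 0, 2, 0, 1] 31 8 true) (.leaf [7, 0, 7, 4, 8, 0, 3] 40 5 true)) (.node (.leaf [0, 2, 0, 3, 5, 0, 4, 4] 54 2 true) (.leaf [8] 7 0 false))) (.node (.node (.leaf [5, 5, 8, 2, 3, 4, 6] 44 0 false) (.leaf [6] 6 0 false)) (.node (.leaf [3, 4, 3, 5, 7, 4] 18 2 true) (.leaf [3, 0, 5, 5, 3, 9, 1, 1] 47 6 true))))))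
noncomputable def tS : Tr := (.leaf (nat_lit 0xfffa536ce11837a3f3a987456f0958ba9fff286a0cbf1a5311659579782bbef7c5fff64da48977b59a0e5f11115ed91e9ccfffb60bfaab2b0d76fb0364a1106c826bfff91b91b10f5adb59aa3686b4d968b48fff5f973d6d7b6010d73b9c9690746b53fff6a292a6cd69e69866e10d5d69bd8c2fff7905fb5aa53e6d20ba5ec5f695391bfff36a36a7857e00ba63b39d9b1ade66dfff64eb457928d257fb596a10ba80a5cffffb59b59b08bb2babbb0add52c0b9a91fff6e6a61bb15427920b5318a65ab6c05fff1885a55f691b0b56ef9bf7c464c61dfff5f55a45531d84df0b46789ad90b901fff3f9af84ec2ee0b42fa4d897b88944ffff73bb0fab6695b60949a130b34d83bcfff3c3aaf3c30b22fb15524f89d913baffff9798a7979971651a6e36f9770b2976fff9bc7e0b024ac627618a568fb0b096bfff59d8c7a6f62c96a9bb90d5784a10b0fff5efc559190af9058ba86e8646f08c7fff81872090b8c60af6cf9f69ca6511a6fff58f6d372f63d56f5d664cc55bb00affff4057813074a70aea565c877c6bd49afff4044554044d669c5cb0ae38959561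efff68439e86b0ad2051a226e96d300926fffa05723ab3360aaa9dfaaf9532b00acfff86f1780ab2057266847c475c7d1bb0fff7f20ab1ca2176015248c75ea9052d5fffac19e31bbac09520ab6874fca179b1fff728741bab5a6b0e4dc6f10ab6714b0fff0aa8c267726b6d08b096a81a86b33afff6dc0aa1b46336da77c2936bf7676d5fff87596826162e9180aa2ad970a127c1fff5ec3637305aa43e4df4ed2500aa43efff45f55277d53d39473f4800aa47f838fff79f16f0a97735bb6d081e76f82d4f8fff7720a91c16837227274829ce3e2672fff7202b77820a973167a67729e8c76cffff5d86797466910a99695ba8bf205776fff6cd740abf6cd66f7e567c30f7c40a9fff25e0a81f32adb1246da5b36119f2affff62c2191fa0a86cf58014e9c79b44d6fff15819462c30090d9b13081540a8970fff58556d4d65d663d6926e80a864d576fff6226d640320914a1936cf74314b0a8fff43f1650a72a034036a4145cd52b15afff3d10a71b729636c49c29988148349cfff24f3382502f949c5531547260a7b08fff67721614c26c5d826e14b26096b0a7fff52b1b00a657b5cf5f919251d29c6d0fff1574d261d0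a654257f48b6d719164afff16019091b52c9bf0a661fb5b5a74d3fff57f14820415f0a662bb594e158368cfff61d5cf5c55d06ef18f18e0a6684698fff0542061f424963b3f95525512b66edfff2060541532fb13c13b2c872f13a1f1fff47a5343d85481f705424e1395ef494fff10915a1092ef05439d63c4483031b7fff10829d2ee36c69214905443e7cd534fff1ba25d9b11075951a044825505452cfff1b261d52d10613813747210238a054fff1561040532a11361354ec42991c0fcfff0f50531561f51d524e2fa4ec134221fff2982472981339b40531b51321ba3acfff1521ad0f624805333619a3df157153fff1a425039b2fa0f85ec053131404130fff0f925e19b12f21d12e19e05357f12dfff4d64345343872e812c12b2413de053fff14f0fd05212a1fa0f93090fe14f24ffff0f405214f1ee0fd14e1bb20d294129fff86e12812705212662f15123e125156fff1241b412319f12205262c1211200f7fff77311f11e11d05211c1b41b81ef11bfff15115111a11914f1b8052118117116fff43e1151140f51aa1521f5113052112fff4c31111b011010f10e43005210d14cfff0bb1530ba0a50b90b80b70b60000b5fff1550b40b31490b20b10b00000af0aefff14e0ad0ac0ab0aa0a90a80a70a6000fff000000000000000000000054053052))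
noncomputable def tJ : Tr := (.leaf (nat_lit 0x1c008178c3526c420614010c05374c00e0420c01c300e55191140e0800c045420e0e33551c008184c50a6d820614010e0407cc08e0020c000840e4d07d60071001400c33256853d614010e04a94f08704208000f00120e0253550405803c000065585410048344301d60600014010e0137405d40021001400c332458539014010005390f08001308000000100e02535218000d0213c405330004000a0000000178400405400012455528110005490124805102e018000001f44404901014050c3487cc4c000f0004cb31140d00001f14010004874c4870420c01c02ce00b75128e18028a1a43c444008000048938d0000102651c00818cc34a40f00020046300b0090000001000000c03233c00080802000000080231c02408401402c700d00d2000211100003800071000000cf02134000004000000024030b84c08000000e2000e11c01c000188c1c600a0002003e200000000014b1801c002200404900a14038000088008e18700010000a0002c002220032010b00000014918000026000504000004034014000000880008030020d00002000000010000118000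01201c008178c1400000062002de00b00024000004000400128020c7800000001c00001c001e1c00817c200000400018024601f00414000010020000301f18000514000500a7c500708008028718000001f2002407881490000000002002de1000000000041001400c011e1000081401000887800000000c01c40000037860070400002870022857800000000060000030de1c00817c000000000320019f00500000000010014300039f0000001401000407c00800020c00000000807c00000800c000000001f0000000001040c000209f1c008174000100100020005d00004000000018000001d00004000010000000301d0000011404000007400000400c00020000007400000400000020000007400801c00000000dd00004000000100000074008000000000001d00000000000000000001d00071c71c71c700000))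
noncomputable def tQ : Tr := (.leaf (nat_lit 0x0))
noncomputable def tR : TC.WTr := (.node (.node (.node r0 r1) (.node r2 r3)) (.node (.node r4 r5) (.node r6 r7)))
def hl : List ℕ := [3, 4, 5, 5, 4, 6, 7, 8, 8, 7, 9]
def B : List (List ℕ) := [[0, 0], [1, 2], [2, 1], [3, 3], [4, 5], [5, 4], [6, 6], [7, 8], [8, 7], [9, 9], [7, 7, 7], [6, 8, 6, 7, 6, 9], [6, 7, 6, 7, 6, 7, 6, 7], [6, 7, 6, 8, 6, 7, 6, 8, 6, 7, 6, 8], [6, 8, 6, 8, 6, 8, 6, 8], [8, 9, 8, 9], [4, 4, 4, 4, 4, 4], [3, 5, 3, 5, 3, 5, 6], [4, 3, 5, 3, 5, 5, 8], [3, 4, 3, 4, 3, 4, 3, 4, 3, 4, 3, 4], [3, 4, 3, 5, 3, 4, 3, 5, 3, 4, 3, 5, 3, 4, 3, 5], [3, 5, 3, 5, 3, 5, 3, 5, 3, 5, 3, 5], [3, 9, 3, 6], [5, 6, 4, 9], [5, 7, 6, 5, 7, 6], [3, 4, 6, 5, 3, 9, 8], [5, 3, 4, 8, 5, 7, 6, 7], [4, 8, 4, 8, 3, 6, 7, 6], [3, 7, 3, 8, 3, 8, 6, 8, 6], [1, 1, 1, 1, 1, 1], [2, 0, 2, 0, 1, 0, 1, 3], [2, 2, 0, 1, 0, 1, 1, 0,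 5], [0, 1, 0, 2, 0, 1, 0, 2, 0, 1, 0, 2, 0, 1, 0, 2], [2, 6, 1, 5, 9, 8, 4], [0, 2, 6, 2, 5, 9, 6], [0, 7, 9, 0, 6, 3, 7, 3], [2, 8, 5, 2, 8, 5], [0, 7, 1, 0, 2, 6, 4], [1, 9, 8, 2, 5, 9, 8, 4], [2, 2, 6, 1, 1, 9, 8], [0, 8, 4, 3, 0, 7, 5, 8], [0, 8, 2, 7, 0, 3, 8, 4], [2, 0, 6, 0, 1, 4, 6, 5], [1, 3, 5, 1, 0, 8, 3, 4], [2, 5, 5, 8, 2, 3, 4, 6], [2, 0, 2, 5, 2, 9, 3, 5], [0, 6, 0, 7, 2, 3, 8, 6, 5], [0, 3, 9, 2, 2, 9, 3, 4, 4], [0, 5, 0, 2, 0, 5, 9, 5, 5], [0, 1, 6, 9, 0, 1, 6, 9], [0, 1, 5, 9, 4, 2, 0, 9, 8], [2, 4, 7, 5, 1, 7, 6, 3, 4, 3], [0, 1, 4, 8, 2, 0, 8, 3, 4, 7], [0, 3, 2, 9, 1, 1, 6, 9], [0, 4, 3, 0, 1, 0, 3, 5, 5], [0, 2, 2, 3, 4, 2, 5, 8, 5], [0, 3, 0, 1, 5, 0, 8, 3, 8], [0, 3, 2, 2, 4, 2, 9, 4, 3], [0, 2, 0, 7, 4, 0, 9, 5, 9, 5], [0, 3, 0, 5, 3, 0, 5, 8, 5, 5, 3]]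
def subs : List (List ℕ) := [[3], [4], [5], [6], [7], [8], [9]]
def ex : List (List ℕ) := []
def inv (x : ℕ) : ℕ := [0, 2, 1, 3, 5, 4, 6, 8, 7, 9].getD x 0
noncomputable def rS : ℕ → ℕ := rowOf tS (nat_lit 7) (nat_lit 127) (nat_lit 132) (nat_lit 5444517870735015415413993718908291383295)
noncomputable def rJ : ℕ → ℕ := rowOf tJ (nat_lit 7) (nat_lit 127) (nat_lit 72) (nat_lit 4722366482869645213695)
noncomputable def C : TC.Cfg where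
  S := look rS (nat_lit 12) (nat_lit 4095)
  J := look rJ (nat_lit 6) (nat_lit 63)
  Q := lookQ tQ (nat_lit 7) (nat_lit 1) (nat_lit 1)
  R := tR.get
  hl := fun x => hl.contains x
  n := (nat_lit 81)
  M := (nat_lit 81)
  top := (nat_lit 3159)
  nl := (nat_lit 10)
  need := (nat_lit 10)
  nr := (nat_lit 28)
theorem k0 : TC.chkRange C 0 2 = true := by decide +kernel
theorem rows0 : ∀ c < (0 + 2) * 64, c < C.M → TC.chkRow C c = true :=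
  TC.rows_step (TC.rows_zero C) k0
theorem main {G : Type*} [Group G] (g : ℕ → G) (hB : ∀ r ∈ B, ev g r = 1) (H : Subgroup G)
    (hH : ∀ w ∈ subs, ev g w ∈ H) :
    H.relIndex (Subgroup.closure (g '' {x | x < 10})) ≠ 0 ∧
      H.relIndex (Subgroup.closure (g '' {x | x < 10})) ≤ 81 :=
  TC.index_le C B subs ex inv hl tR.hint rfl (by decide +kernel) (by decide +kernel)
    (TC.rows_done rows0 (by decide +kernel)) g hB H hH
end H0.TCO732
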